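import Cfsg.Agent.H40.Dihedral.LocalAlgebra
import Cfsg.Agent.H31.TwoChar.Algebra
import Mathlib

/-!
# One simple module, five dimensions modulo commutators

The basic algebra of a symmetric algebra with one simple module and at most five dimensions
modulo commutators has dimension at most fifteen, if the square of some nilpotent central element
does not kill every nilpotent element under the form.
The lifting of matrix units follows `Cfsg.Agent.H31.TwoChar.exists_matrix_form`.
-/

set_option autoImplicit false
set_option maxHeartbeats 2000000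

namespace Cfsg.Agent.H40.Dihedral

open Module
open Cfsg.Agent.H31.TwoChar (comm exists_lift_matrix_units brSpan)

variable {k : Type*} [Field k] {A : Type*} [Ring A] [Algebra k A]

/-- The bound fifteen on the basic algebra. -/
theorem exists_basic_form [IsAlgClosed k] [FiniteDimensional k A] [Nontrivial A] (h2 : (2 : k) = 0)
    (τ : A →ₗ[k] k)
    (hsym : ∀ a b, τ (a * b) = τ (b * a)) (hnd : ∀ a, (∀ b, τ (a * b) = 0) → a = 0)
    (hk : finrank k (A ⧸ comm k A) ≤ 5)
    (hs : ∀ (d : ℕ) (dd : Fin d → ℕ), (∀ i, NeZero (dd i)) →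
      ∀ F : A →ₐ[k] ((i : Fin d) → Matrix (Fin (dd i)) (Fin (dd i)) k),
        Function.Surjective F → d ≤ 1)
    (f : A) (hfc : ∀ a, f * a = a * f) (hfn : IsNilpotent f)
    (hfa : ∃ a : A, IsNilpotent a ∧ τ (f * f * a) ≠ 0) :
    ∃ (n c : ℕ) (e : A), e * e = e ∧ finrank k A = n ^ 2 * c ∧ c ≤ 15 ∧
      finrank k (LinearMap.range (LinearMap.mulRight k e)) = n * c := by
  classical
  have hArt : IsArtinianRing A := IsArtinianRing.of_finite k A
  set J := Ring.jacobson A
  obtain ⟨d, dd, hdd, ⟨φ⟩⟩ :=
    IsSemisimpleRing.exists_algEquiv_pi_matrix_of_isAlgClosed k (A ⧸ J)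
  let F := φ.toAlgHom.comp (Ideal.Quotient.mkₐ k J)
  have hF : Function.Surjective F := φ.surjective.comp (Ideal.Quotient.mkₐ_surjective k J)
  have hFker : ∀ a, F a = 0 ↔ a ∈ J := fun a => by
    simp [F, Ideal.Quotient.eq_zero_iff_mem]
  obtain ⟨N, hN⟩ : IsNilpotent J := IsSemiprimaryRing.isNilpotent
  have hd1 : d = 1 := by
    refine le_antisymm (hs d dd hdd F hF) ?_
    rcases Nat.eq_zero_or_pos d with hd0 | hd0
    · subst hd0
      exfalso
      have : F 1 = F 0 := Subsingleton.elim _ _
      have h1J : (1 : A) ∈ J := (hFker 1).1 (by rw [this, map_zero])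
      have := Ideal.pow_mem_pow h1J N
      rw [one_pow, hN] at this
      exact one_ne_zero (α := A) (by simp at this)
    · exact hd0
  subst hd1
  obtain ⟨n, hn⟩ := Nat.exists_eq_succ_of_ne_zero (hdd 0).out
  let π : A →ₐ[k] Matrix (Fin (n + 1)) (Fin (n + 1)) k :=
    (Matrix.reindexAlgEquiv k k (finCongr hn)).toAlgHom.comp ((Pi.evalAlgHom k _ 0).comp F)
  have hπ : Function.Surjective π := by
    intro Y
    obtain ⟨a, ha⟩ := hF fun i => (Fin.fin_one_eq_zero i).symm ▸
      (Matrix.reindexAlgEquiv k k (finCongr hn)).symm Y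
    exact ⟨a, by simp [π, ha, Function.comp_def]; exact Matrix.submatrix_id_id _⟩
  have hπker : ∀ a, π a = 0 ↔ a ∈ J := fun a => by
    rw [← hFker]
    constructor
    · intro h
      funext i
      rw [Fin.fin_one_eq_zero i]
      exact (Matrix.reindexAlgEquiv k k (finCongr hn)).injective (by simpa [π] using h)
    · intro h
      simp [π, h]
  obtain ⟨u, v, e, he, heπ, huv, hvu, hu0, hv0, heu, hve, hue, hev⟩ :=
    exists_lift_matrix_units π hπ fun a ha => ⟨N, by
      have := Ideal.pow_mem_pow ((hπker a).1 ha) N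
      rwa [hN] at this⟩
  have h00 : e 0 * e 0 = e 0 := (he.idem 0).eq
  let cm : A →ₗ[k] A := (LinearMap.mulLeft k (e 0)).comp (LinearMap.mulRight k (e 0))
  have hcm : ∀ a, cm a = e 0 * a * e 0 := fun a => by simp [cm, mul_assoc]
  set C := LinearMap.range cm
  have hC : ∀ a, a ∈ C ↔ e 0 * a * e 0 = a := fun a => by
    constructor
    · rintro ⟨b, rfl⟩
      rw [hcm]
      simp only [mul_assoc, h00]
      simp only [← mul_assoc, h00]
    · exact fun h => ⟨a, by rw [hcm, h]⟩
  have hCe : e 0 ∈ C := (hC _).2 (by rw [h00, h00])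
  have h0a : ∀ x ∈ C, e 0 * x = x := fun x hx => by
    conv_lhs => rw [← (hC x).1 hx, ← mul_assoc, ← mul_assoc, h00, (hC x).1 hx]
  have h0b : ∀ x ∈ C, x * e 0 = x := fun x hx => by
    conv_lhs => rw [← (hC x).1 hx, mul_assoc, h00, (hC x).1 hx]
  have hcent : ∀ i b j, v i * b * u j ∈ C := fun i b j => (hC _).2 (by
    simp only [mul_assoc, hue]
    simp only [← mul_assoc, hev])
  have hCmul : ∀ a ∈ C, ∀ b ∈ C, a * b ∈ C := fun a ha b hb => (hC _).2 (by
    rw [← mul_assoc, h0a a ha, mul_assoc, h0b b hb])
  have hvu' : ∀ a b, v a * u b = if a = b then e 0 else 0 := fun a b => by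
    by_cases h : a = b
    · subst h; rw [if_pos rfl, hvu]
    · rw [if_neg h, ← hve a, ← heu b, mul_assoc, ← mul_assoc (e a), he.ortho h, zero_mul,
        mul_zero]
  have hdim : finrank k A = (n + 1) * (n + 1) * finrank k C := by
    let Φ : A ≃ₗ[k] (Fin (n + 1) → Fin (n + 1) → C) :=
      { toFun := fun a i j => ⟨v i * a * u j, hcent i a j⟩
        map_add' := fun a b => by ext i j; simp [mul_add, add_mul]
        map_smul' := fun r a => by ext i j; simp
        invFun := fun f => ∑ i, ∑ j, u i * (f i j : A) * v j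
        left_inv := fun a => by
          calc ∑ i, ∑ j, u i * (v i * a * u j) * v j = ∑ i, ∑ j, e i * a * e j := by
                simp only [← mul_assoc, huv]
                simp only [mul_assoc, huv]
            _ = a := by
                simp [← Finset.mul_sum, ← Finset.sum_mul, he.complete]
        right_inv := fun f => by
          funext i j
          apply Subtype.ext
          show v i * (∑ a, ∑ b, u a * (f a b : A) * v b) * u j = (f i j : A)
          rw [Finset.mul_sum, Finset.sum_mul, Finset.sum_eq_single i, Finset.mul_sum,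
            Finset.sum_mul, Finset.sum_eq_single j]
          · rw [← mul_assoc, ← mul_assoc, mul_assoc _ (v j), hvu' i i, hvu' j j, if_pos rfl,
              if_pos rfl, (hC _).1 (f i j).2]
          · intro b _ hb
            rw [← mul_assoc, ← mul_assoc, mul_assoc _ (v b), hvu' b j, if_neg hb, mul_zero]
          · simp
          · intro a _ ha
            simp [Finset.mul_sum, ← mul_assoc, hvu' i a, if_neg (Ne.symm ha)]
          · simp }
    rw [Φ.finrank_eq]
    simp [mul_assoc, Module.finrank_pi_fintype]
  have hcol : finrank k (LinearMap.range (LinearMap.mulRight k (e 0))) =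
      (n + 1) * finrank k C := by
    have hmem : ∀ f : Fin (n + 1) → C, (∑ i, u i * (f i : A)) ∈
        LinearMap.range (LinearMap.mulRight k (e 0)) := fun f =>
      LinearMap.mem_range.2 ⟨∑ i, u i * (f i : A), by
        rw [LinearMap.mulRight_apply, Finset.sum_mul]
        exact Finset.sum_congr rfl fun i _ => by rw [mul_assoc, h0b _ (f i).2]⟩
    let Ψ : (Fin (n + 1) → C) →ₗ[k] LinearMap.range (LinearMap.mulRight k (e 0)) :=
      { toFun := fun f => ⟨∑ i, u i * (f i : A), hmem f⟩
        map_add' := fun f g => by ext; simp [mul_add, Finset.sum_add_distrib]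
        map_smul' := fun r f => by ext; simp [Finset.smul_sum] }
    have hinj : Function.Injective Ψ := by
      intro f g h
      funext j
      apply Subtype.ext
      have hrec : ∀ f : Fin (n + 1) → C, v j * (∑ i, u i * (f i : A)) = (f j : A) := fun f => by
        rw [Finset.mul_sum, Finset.sum_eq_single j]
        · rw [← mul_assoc, hvu, h0a _ (f j).2]
        · intro b _ hb
          rw [← mul_assoc, hvu', if_neg (Ne.symm hb), zero_mul]
        · simp
      have h' := congrArg (fun z => v j * (z : A)) (congrArg Subtype.val h)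
      simpa [Ψ, hrec] using h'
    have hsurj : Function.Surjective Ψ := by
      rintro ⟨a, ha⟩
      obtain ⟨b, rfl⟩ := LinearMap.mem_range.1 ha
      refine ⟨fun i => ⟨v i * (b * e 0), (hC _).2 ?_⟩, Subtype.ext ?_⟩
      · simp only [mul_assoc, h00]
        simp only [← mul_assoc, hev]
      · show (∑ i, u i * (v i * (b * e 0))) = b * e 0
        simp only [← mul_assoc, huv, ← Finset.sum_mul, he.complete, one_mul]
    rw [← (LinearEquiv.ofBijective Ψ ⟨hinj, hsurj⟩).finrank_eq]
    simp [Module.finrank_pi_fintype]
  let T : A →ₗ[k] A := ∑ i, (LinearMap.mulLeft k (v i)).comp (LinearMap.mulRight k (u i))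
  have hT : ∀ a, T a = ∑ i, v i * a * u i := fun a => by simp [T, mul_assoc]
  have hTC : ∀ a ∈ C, T a = a := fun a ha => by
    rw [hT, Finset.sum_eq_single 0]
    · rw [hu0, hv0, (hC a).1 ha]
    · intro i _ hi
      rw [← (hC a).1 ha, ← hve i]
      simp only [← mul_assoc]
      rw [mul_assoc (v i) (e i), he.ortho hi]
      simp
    · simp
  set J0 : Submodule k A := C ⊓ LinearMap.ker π.toLinearMap
  have hdec : ∀ a ∈ C, ∃ r : k, a - r • e 0 ∈ J0 := by
    intro a ha
    refine ⟨π a 0 0, C.sub_mem ha (C.smul_mem _ hCe), ?_⟩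
    show π (a - π a 0 0 • e 0) = 0
    rw [map_sub, map_smul, ← (hC a).1 ha, map_mul, map_mul, heπ]
    ext i j
    simp only [Matrix.sub_apply, Matrix.smul_apply, Matrix.zero_apply,
      Matrix.single_mul_mul_single, one_mul, mul_one, Matrix.single_apply, smul_eq_mul]
    split <;> simp
  have hJmul : J0 * J0 ≤ J0 := Submodule.mul_le.2 fun a ha b hb =>
    ⟨hCmul a ha.1 b hb.1, by
      show π (a * b) = 0
      rw [map_mul, show π a = 0 from ha.2, zero_mul]⟩
  have hpow : ∀ m : ℕ, ∀ a ∈ J0 ^ (m + 1), a ∈ J ^ (m + 1) := by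
    intro m
    induction m with
    | zero =>
      intro a ha
      rw [pow_one] at ha
      rw [Submodule.pow_one]
      exact (hπker a).1 ha.2
    | succ m ih =>
      intro a ha
      rw [pow_succ] at ha
      induction ha using Submodule.mul_induction_on' with
      | mem_mul_mem p hp q hq =>
        rw [Submodule.pow_succ]
        exact Ideal.mul_mem_mul (ih p hp) ((hπker q).1 hq.2)
      | add p _ q _ hp hq => exact add_mem hp hq
  have hN0 : J0 ^ (N + 1) = ⊥ := le_bot_iff.1 fun a ha => by
    have h := hpow N a ha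
    rw [Submodule.pow_succ, hN, zero_mul] at h
    simpa using h
  have hbr : ∀ a ∈ C, ∀ b ∈ C, a * b - b * a ∈ brSpan J0 := by
    intro a ha b hb
    obtain ⟨r, hr⟩ := hdec a ha
    obtain ⟨s, hs⟩ := hdec b hb
    refine Submodule.subset_span ⟨_, hr, _, hs, ?_⟩
    simp only [sub_mul, mul_sub, smul_mul_assoc, mul_smul_comm, h0a a ha, h0a b hb, h0b a ha,
      h0b b hb, h00, smul_sub, smul_smul, mul_comm s r]
    abel
  have hcommT : comm k A ≤ (brSpan J0).comap T := by
    refine Submodule.span_le.2 ?_
    rintro _ ⟨⟨a, b⟩, rfl⟩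
    show T (a * b - b * a) ∈ brSpan J0
    have ex : ∀ a b, T (a * b) = ∑ i, ∑ j, (v i * a * u j) * (v j * b * u i) := fun a b => by
      rw [hT]
      refine Finset.sum_congr rfl fun i _ => ?_
      calc v i * (a * b) * u i = v i * a * (∑ j, e j) * b * u i := by
            rw [he.complete, mul_one, ← mul_assoc]
        _ = _ := by
            simp only [Finset.mul_sum, Finset.sum_mul, ← huv, mul_assoc]
    rw [map_sub, ex, ex, Finset.sum_comm (f := fun i j => v i * b * u j * (v j * a * u i)),
      ← Finset.sum_sub_distrib]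
    refine Submodule.sum_mem _ fun i _ => ?_
    rw [← Finset.sum_sub_distrib]
    exact Submodule.sum_mem _ fun j _ => hbr _ (hcent i a j) _ (hcent j b i)
  have hKC : brSpan J0 ≤ C := Submodule.span_le.2 (by
    rintro _ ⟨a, ha, b, hb, rfl⟩
    exact C.sub_mem (hCmul a ha.1 b hb.1) (hCmul b hb.1 a ha.1))
  have hlin : finrank k C ≤ finrank k (brSpan J0) + finrank k (A ⧸ comm k A) := by
    have hTrange : LinearMap.range T ≤ C := by
      rintro _ ⟨a, rfl⟩
      rw [hT]
      exact C.sum_mem fun i _ => hcent i a i
    have hTsurj : C ≤ LinearMap.range T := fun a ha => ⟨a, hTC a ha⟩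
    have h1 := T.finrank_range_add_finrank_ker
    have h2 : finrank k ((brSpan J0).comap T) =
        finrank k (brSpan J0) + finrank k (LinearMap.ker T) := by
      have := (T.domRestrict ((brSpan J0).comap T)).finrank_range_add_finrank_ker
      rw [LinearMap.range_domRestrict,
        Submodule.map_comap_eq_of_le (hKC.trans hTsurj), LinearMap.ker_domRestrict,
        (Submodule.comapSubtypeEquivOfLe (LinearMap.ker_le_comap T)).finrank_eq] at this
      omega
    have h3 := Submodule.finrank_quotient_add_finrank (comm k A)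
    have h5 := Submodule.finrank_mono hcommT
    have h6 : finrank k (LinearMap.range T) = finrank k C := by
      rw [le_antisymm hTrange hTsurj]
    omega
  have he0 : e 0 ∉ J0 := fun h => by
    have h' : π (e 0) = 0 := h.2
    rw [heπ] at h'
    simpa using congrFun (congrFun h' 0) 0
  have hJC : finrank k C = finrank k J0 + 1 := by
    have h : C = J0 ⊔ Submodule.span k {e 0} := by
      refine le_antisymm (fun a ha => ?_) (sup_le inf_le_left (Submodule.span_le.2 (by simpa)))
      obtain ⟨r, hr⟩ := hdec a ha
      exact Submodule.mem_sup.2 ⟨_, hr, r • e 0, Submodule.mem_span_singleton.2 ⟨r, rfl⟩, by abel⟩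
    conv_lhs => rw [h]
    rw [Submodule.finrank_sup_span_singleton he0]
  have hideal : ∀ X : Submodule k A, X ≤ J0 → J0 * X ≤ X → (∀ z ∈ X, τ z = 0) → X = ⊥ := by
    intro X hX hmul hτ0
    refine (Submodule.eq_bot_iff X).2 fun x hx => hnd x fun b => ?_
    have hxC : x ∈ C := (hX hx).1
    obtain ⟨r, hr⟩ := hdec (e 0 * b * e 0) ((hC _).2 (by
      simp only [mul_assoc, h00]; simp only [← mul_assoc, h00]))
    have hmem : e 0 * b * e 0 * x ∈ X := by
      have h := X.add_mem (hmul (Submodule.mul_mem_mul hr hx)) (X.smul_mem r hx)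
      rwa [sub_mul, smul_mul_assoc, h0a x hxC, sub_add_cancel] at h
    calc τ (x * b) = τ (x * e 0 * b) := by rw [h0b x hxC]
      _ = τ (e 0 * (x * (e 0 * b))) := by
          rw [← mul_assoc, h0a x hxC, ← mul_assoc]
      _ = τ (x * (e 0 * b) * e 0) := hsym _ _
      _ = τ (x * (e 0 * b * e 0)) := by rw [mul_assoc x]
      _ = τ (e 0 * b * e 0 * x) := hsym _ _
      _ = 0 := hτ0 _ hmem
  have hτK : ∀ z ∈ br J0 J0, τ z = 0 := fun z hz => by
    have hle : br J0 J0 ≤ LinearMap.ker τ := Submodule.span_le.2 (by
      rintro _ ⟨a, -, b, -, rfl⟩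
      simp [hsym a b])
    exact hle hz
  refine ⟨n + 1, finrank k C, e 0, h00, by rw [hdim, sq], ?_, hcol⟩
  by_contra! hc16
  -- the central element in the corner
  set g := e 0 * f with hg
  have hgJ : g ∈ J0 := by
    refine ⟨(hC _).2 ?_, ?_⟩
    · rw [hg, ← mul_assoc, h00, mul_assoc, hfc, ← mul_assoc, h00]
    · show π (e 0 * f) = 0
      have hfz : ∀ Y, Commute Y (π f) := fun Y => by
        obtain ⟨a, rfl⟩ := hπ Y
        exact (show Commute a f from (hfc a).symm).map π
      obtain ⟨r, hr⟩ := Matrix.mem_range_scalar_of_commute_single fun i j _ => hfz (Matrix.single i j 1)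
      have hr0 : r = 0 := by
        have hnil := hfn.map π
        rw [← hr] at hnil
        have := (IsNilpotent.map_iff (f := Matrix.scalar (Fin (n + 1)) (α := k))
          (fun a b h => by simpa using congrFun (congrFun h 0) 0)).1 hnil
        exact this.eq_zero
      rw [map_mul, ← hr, hr0, map_zero, mul_zero]
  refine no_local h2 hN0 hJmul ?_ (by omega) τ hτK hideal hgJ ?_ ?_
  · have : finrank k (brSpan J0) = finrank k (br J0 J0) := rfl
    omega
  · intro a ha
    rw [hg, mul_assoc, hfc a, ← mul_assoc, h0a a ha.1, ← mul_assoc, h0b a ha.1]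
  · by_contra! hall
    obtain ⟨a, han, hane⟩ := hfa
    apply hane
    have hterm : ∀ i j, τ (f * f * (u i * (v i * a * u j) * v j)) =
        if i = j then π a i i * τ (f * f * e 0) else 0 := by
      intro i j
      obtain ⟨r, hr⟩ := hdec _ (hcent i a j)
      have hkill : f * f * (v i * a * u j - r • e 0) = 0 := by
        have h := hall _ hr
        rwa [hg, show e 0 * f * (e 0 * f) * (v i * a * u j - r • e 0) =
          f * f * (v i * a * u j - r • e 0) by
          rw [← mul_assoc (e 0 * f), mul_assoc (e 0) f (e 0), hfc (e 0), ← mul_assoc, h00,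
            ← hfc (e 0), mul_assoc f (e 0) f, ← hfc (e 0), ← mul_assoc f f, mul_assoc (f * f),
            h0a _ hr.1]] at h
      have he0' : f * f * (v i * a * u j) = r • (f * f * e 0) := by
        rw [mul_sub, sub_eq_zero, mul_smul_comm] at hkill
        exact hkill
      have hcom : ∀ x, f * f * x = x * (f * f) := fun x => by
        rw [mul_assoc, hfc x, ← mul_assoc, hfc x, mul_assoc]
      rw [← mul_assoc, ← mul_assoc, hcom (u i), mul_assoc (u i), he0', mul_smul_comm,
        smul_mul_assoc, map_smul, smul_eq_mul, hsym (u i * (f * f * e 0)), ← mul_assoc,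
        hvu']
      by_cases hij : i = j
      · subst hij
        rw [if_pos rfl, if_pos rfl,
          show e 0 * (f * f * e 0) = f * f * e 0 by rw [← mul_assoc, ← hcom (e 0), mul_assoc, h00]]
        congr 1
        have h1 : π (v i * a * u i) = r • π (e 0) := by
          rw [← sub_eq_zero, ← map_smul, ← map_sub]
          exact hr.2
        have h3 : π (e i * a * e i) = r • π (e i) := by
          rw [show e i * a * e i = u i * (v i * a * u i) * v i by
            rw [← huv]; simp only [mul_assoc], map_mul, map_mul, h1, mul_smul_comm, smul_mul_assoc,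
            ← map_mul, ← map_mul, hue, huv]
        rw [map_mul, map_mul, heπ] at h3
        have h4 := congrFun (congrFun h3 i) i
        simpa using h4.symm
      · rw [if_neg (Ne.symm hij), if_neg hij, zero_mul, map_zero, mul_zero]
    have hsum : a = ∑ i, ∑ j, u i * (v i * a * u j) * v j := by
      symm
      calc ∑ i, ∑ j, u i * (v i * a * u j) * v j = ∑ i, ∑ j, e i * a * e j := by
            simp only [← mul_assoc, huv]
            simp only [mul_assoc, huv]
        _ = a := by simp [← Finset.mul_sum, ← Finset.sum_mul, he.complete]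
    calc τ (f * f * a) = τ (f * f * ∑ i, ∑ j, u i * (v i * a * u j) * v j) := by rw [← hsum]
      _ = ∑ i, ∑ j, τ (f * f * (u i * (v i * a * u j) * v j)) := by
          simp [Finset.mul_sum, map_sum]
      _ = Matrix.trace (π a) * τ (f * f * e 0) := by
          simp only [hterm, Finset.sum_ite_eq, Finset.mem_univ, if_true, Matrix.trace,
            Matrix.diag_apply, Finset.sum_mul]
      _ = 0 := by
          rw [(Matrix.isNilpotent_trace_of_isNilpotent (han.map π)).eq_zero, zero_mul]

end Cfsg.Agent.H40.Dihedral
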