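import Cfsg.Agent.H31.TwoChar.LocalAlgebra
import Mathlib

/-!
# Local symmetric algebras with a five-dimensional centre are small

The radical of a symmetric local algebra in characteristic two whose space modulo commutators has
dimension at most five has dimension below fifteen, once some central element of it has a
square which does not kill the radical.
-/

set_option autoImplicit false
set_option maxHeartbeats 1000000

namespace Cfsg.Agent.H40.Dihedral

open Module
open Cfsg.Agent.H31.TwoChar (mulLeMulLeft eq_bot_of_le_mul bracket_eq_bot_one cube_eq_bot brSpan)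

variable {k : Type*} [Field k] {A : Type*} [Ring A] [Algebra k A]

/-- The span of the brackets between two subspaces. -/
def br (X Y : Submodule k A) : Submodule k A :=
  Submodule.span k {z | ∃ a ∈ X, ∃ b ∈ Y, z = a * b - b * a}

theorem br_mem {X Y : Submodule k A} {a b : A} (ha : a ∈ X) (hb : b ∈ Y) : a * b - b * a ∈ br X Y :=
  Submodule.subset_span ⟨a, ha, b, hb, rfl⟩

theorem br_le {X Y Z : Submodule k A} (h : ∀ a ∈ X, ∀ b ∈ Y, a * b - b * a ∈ Z) : br X Y ≤ Z :=
  Submodule.span_le.2 (by rintro _ ⟨a, ha, b, hb, rfl⟩; exact h a ha b hb)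

theorem mul_sub_mul_symm {X Y : Submodule k A} {a b : A} (ha : a ∈ X) (hb : b ∈ Y) :
    b * a - a * b ∈ br X Y := by
  rw [← neg_sub]; exact Submodule.neg_mem _ (br_mem ha hb)

theorem span_pair_mul_le {J X : Submodule k A} {x y : A} {S : Set A} {Z : Submodule k A}
    (hJ : J ≤ Submodule.span k {x, y} ⊔ J * J) (hX : X ≤ Submodule.span k S ⊔ Z)
    (hXJ : J * J * X ≤ J * Z) (hx : x ∈ J) (hy : y ∈ J) {T : Set A}
    (hT : ∀ s ∈ S, x * s ∈ Submodule.span k T ⊔ J * Z ∧ y * s ∈ Submodule.span k T ⊔ J * Z) :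
    J * X ≤ Submodule.span k T ⊔ J * Z := by
  refine Submodule.mul_le.2 fun a ha v hv => ?_
  obtain ⟨w, hw, j, hj, rfl⟩ := Submodule.mem_sup.1 (hJ ha)
  rw [add_mul]
  refine Submodule.add_mem _ ?_ (Submodule.mem_sup_right (hXJ (Submodule.mul_mem_mul hj hv)))
  obtain ⟨s, hs, z, hz, rfl⟩ := Submodule.mem_sup.1 (hX hv)
  obtain ⟨r, t, rfl⟩ := Submodule.mem_span_pair.1 hw
  have key : ∀ g : A, g ∈ J → (∀ u ∈ S, g * u ∈ Submodule.span k T ⊔ J * Z) →
      g * (s + z) ∈ Submodule.span k T ⊔ J * Z := by
    intro g hg hgS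
    rw [mul_add]
    refine Submodule.add_mem _ ?_ (Submodule.mem_sup_right (Submodule.mul_mem_mul hg hz))
    exact (Submodule.span_le.2 (show S ⊆ ((Submodule.span k T ⊔ J * Z).comap
      (LinearMap.mulLeft k g) : Submodule k A) from hgS) hs :)
  rw [add_mul, smul_mul_assoc, smul_mul_assoc]
  exact Submodule.add_mem _ (Submodule.smul_mem _ _ (key x hx fun u hu => (hT u hu).1))
    (Submodule.smul_mem _ _ (key y hy fun u hu => (hT u hu).2))

theorem finrank_le_card_add [FiniteDimensional k A] [DecidableEq A] {X Y : Submodule k A}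
    (S : Finset A) (h : X ≤ Submodule.span k (S : Set A) ⊔ Y) :
    finrank k X ≤ S.card + finrank k Y := by
  have h1 := Submodule.finrank_mono h
  have h2 := Submodule.finrank_add_le_finrank_add_finrank (Submodule.span k (S : Set A)) Y
  have h3 := finrank_span_finset_le_card (R := k) S
  rw [Set.finrank] at h3
  omega

/-- If the cubes of the generators span one dimension modulo fourth powers and are all brackets,
the fourth power vanishes. -/
theorem fourth_eq_bot_of_line {J : Submodule k A} {N : ℕ} (hN : J ^ N = ⊥) {w : A}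
    (hline : J * (J * J) ≤ Submodule.span k {w} ⊔ J * (J * (J * J)))
    (hbr : J * (J * J) ≤ br J (J * J) ⊔ J * (J * (J * J))) :
    J * (J * (J * J)) = ⊥ := by
  set P2 := J * J with hP2
  set P3 := J * P2 with hP3
  set P4 := J * P3 with hP4
  set P5 := J * P4 with hP5
  refine eq_bot_of_le_mul hN ?_
  by_contra hne
  have hT : ∀ a b c : A, a ∈ J → b ∈ J → c ∈ J → ∃ t : k, a * (b * c) - t • w ∈ P4 := by
    intro a b c ha hb hc
    obtain ⟨u, hu, r, hr, he⟩ :=
      Submodule.mem_sup.1 (hline (Submodule.mul_mem_mul ha (Submodule.mul_mem_mul hb hc)))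
    obtain ⟨t, rfl⟩ := Submodule.mem_span_singleton.1 hu
    exact ⟨t, by rw [← he, add_sub_cancel_left]; exact hr⟩
  choose T hT using hT
  let q := Submodule.mkQ P5
  have hright : ∀ {r g : A}, r ∈ P4 → g ∈ J → r * g ∈ P5 := by
    intro r g hr hg
    have h : P4 * J = P5 := by simp only [hP5, hP4, hP3, hP2, mul_assoc]
    exact h ▸ Submodule.mul_mem_mul hr hg
  have hrel : ∀ (a b c d : A) (ha : a ∈ J) (hb : b ∈ J) (hc : c ∈ J) (hd : d ∈ J),
      T a b c ha hb hc • q (w * d) = T b c d hb hc hd • q (a * w) := by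
    intro a b c d ha hb hc hd
    rw [← map_smul, ← map_smul]
    refine (Submodule.Quotient.eq P5).2 ?_
    have h1 : (a * (b * c) - T a b c ha hb hc • w) * d ∈ P5 := hright (hT a b c ha hb hc) hd
    have h2 : a * (b * (c * d) - T b c d hb hc hd • w) ∈ P5 :=
      Submodule.mul_mem_mul ha (hT b c d hb hc hd)
    have := P5.sub_mem h2 h1
    simp only [mul_sub, sub_mul, smul_mul_assoc, mul_smul_comm, mul_assoc] at this
    convert this using 1
    abel
  -- right multiples of `w` span the fourth power
  have hw4 : (∀ d ∈ J, q (w * d) = 0) → P4 ≤ P5 := by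
    intro h
    rw [show P4 = P3 * J by simp only [hP4, hP3, hP2, mul_assoc]]
    refine Submodule.mul_le.2 fun u hu d hd => ?_
    obtain ⟨u', hu', r, hr, rfl⟩ := Submodule.mem_sup.1 (hline hu)
    obtain ⟨t, rfl⟩ := Submodule.mem_span_singleton.1 hu'
    rw [add_mul, smul_mul_assoc]
    exact P5.add_mem (P5.smul_mem t ((Submodule.Quotient.mk_eq_zero P5).1 (h d hd))) (hright hr hd)
  have hsmall : P3 ≤ P4 → False := fun h => hne (by
    have h3 : P3 = ⊥ := eq_bot_of_le_mul hN h
    rw [hP4, h3]; simp)
  by_cases hzero : ∀ (a b c : A) (ha : a ∈ J) (hb : b ∈ J) (hc : c ∈ J), T a b c ha hb hc = 0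
  · refine hsmall (Submodule.mul_le.2 fun a ha v hv => ?_)
    refine Submodule.mul_induction_on hv (fun b hb c hc => ?_) fun u v hu hv => ?_
    · simpa [hzero a b c ha hb hc] using hT a b c ha hb hc
    · rw [mul_add]; exact P4.add_mem hu hv
  push Not at hzero
  obtain ⟨a₀, b₀, c₀, ha₀, hb₀, hc₀, hT₀⟩ := hzero
  set v := q (a₀ * w)
  have hR : ∀ d (hd : d ∈ J), q (w * d) =
      ((T a₀ b₀ c₀ ha₀ hb₀ hc₀)⁻¹ * T b₀ c₀ d hb₀ hc₀ hd) • v := by
    intro d hd
    rw [mul_smul, ← hrel a₀ b₀ c₀ d ha₀ hb₀ hc₀ hd, inv_smul_smul₀ hT₀]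
  have hL : ∀ a (ha : a ∈ J), q (a * w) =
      ((T a₀ b₀ c₀ ha₀ hb₀ hc₀)⁻¹ * T a a₀ b₀ ha ha₀ hb₀) • q (w * c₀) := by
    intro a ha
    rw [mul_smul, hrel a a₀ b₀ c₀ ha ha₀ hb₀ hc₀, inv_smul_smul₀ hT₀]
  have hv : v ≠ 0 := fun h => hne (hw4 fun d hd => by rw [hR d hd, h, smul_zero])
  let α : (d : A) → d ∈ J → k := fun d hd => (T a₀ b₀ c₀ ha₀ hb₀ hc₀)⁻¹ * T b₀ c₀ d hb₀ hc₀ hd
  let α' : (a : A) → a ∈ J → k := fun a ha =>
    (T a₀ b₀ c₀ ha₀ hb₀ hc₀)⁻¹ * T a a₀ b₀ ha ha₀ hb₀ * α c₀ hc₀
  have hL' : ∀ a (ha : a ∈ J), q (a * w) = α' a ha • v := by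
    intro a ha
    rw [hL a ha, hR c₀ hc₀, smul_smul]
  have hscal : ∀ (a b c d : A) (ha : a ∈ J) (hb : b ∈ J) (hc : c ∈ J) (hd : d ∈ J),
      T a b c ha hb hc * α d hd = T b c d hb hc hd * α' a ha := by
    intro a b c d ha hb hc hd
    have h := hrel a b c d ha hb hc hd
    rw [hR d hd, hL' a ha, smul_smul, smul_smul] at h
    exact smul_left_injective k hv h
  obtain ⟨e, he, hαe⟩ : ∃ e, ∃ he : e ∈ J, α e he ≠ 0 := by
    by_contra! h
    refine hne (hw4 fun d hd => ?_)
    rw [hR d hd, show (T a₀ b₀ c₀ ha₀ hb₀ hc₀)⁻¹ * T b₀ c₀ d hb₀ hc₀ hd = 0 from h d hd, zero_smul]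
  have hsym : ∀ (a b c : A) (ha : a ∈ J) (hb : b ∈ J) (hc : c ∈ J),
      T a b c ha hb hc * α e he ^ 3 =
        T e e e he he he * (α' a ha * α' b hb * α' c hc) := by
    intro a b c ha hb hc
    linear_combination α e he ^ 2 * hscal a b c e ha hb hc he +
      α e he * α' a ha * hscal b c e e hb hc he he + α' a ha * α' b hb * hscal c e e e hc he he he
  have hcyc : ∀ (a b c : A) (ha : a ∈ J) (hb : b ∈ J) (hc : c ∈ J),
      T a b c ha hb hc = T b c a hb hc ha := fun a b c ha hb hc =>
    mul_right_cancel₀ (pow_ne_zero 3 hαe) (by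
      rw [hsym a b c ha hb hc, hsym b c a hb hc ha]; ring)
  refine hsmall (hbr.trans (sup_le (br_le fun a ha v hv => ?_) le_rfl))
  refine Submodule.mul_induction_on hv (fun b hb c hc => ?_) fun u v hu hv => ?_
  · rw [mul_assoc b c a]
    have h := P4.sub_mem (hT a b c ha hb hc) (hT b c a hb hc ha)
    rw [hcyc a b c ha hb hc, sub_sub_sub_cancel_right] at h
    exact h
  · rw [mul_add, add_mul, add_sub_add_comm]; exact P4.add_mem hu hv

/-- The same with squares of the generators deep and two independent words in every degree: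
the fifth power vanishes. -/
theorem fifth_eq_bot_of_alternating {J : Submodule k A} {N : ℕ} (hN : J ^ N = ⊥) {x y : A}
    (hx : x ∈ J) (hy : y ∈ J) (hxx : x * x ∈ J * (J * J)) (hyy : y * y ∈ J * (J * J))
    (hJ : J ≤ Submodule.span k {x, y} ⊔ J * J)
    (h4 : J * (J * (J * J)) ≤
      Submodule.span k {x * y * x * y - y * x * y * x} ⊔ J * (J * (J * (J * J)))) :
    J * (J * (J * (J * J))) = ⊥ := by
  set P2 := J * J with hP2
  set P3 := J * P2 with hP3
  set P4 := J * P3 with hP4
  set P5 := J * P4 with hP5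
  set P6 := J * P5 with hP6
  set w := x * y * x * y - y * x * y * x with hw
  refine eq_bot_of_le_mul hN ?_
  have hw4 : x * y * x * y ∈ P4 ∧ y * x * y * x ∈ P4 := by
    constructor <;>
    · simp only [hP4, hP3, hP2, mul_assoc]
      exact Submodule.mul_mem_mul (by assumption) (Submodule.mul_mem_mul (by assumption)
        (Submodule.mul_mem_mul (by assumption) (by assumption)))
  have hcoef : ∀ z ∈ P4, ∃ t : k, z - t • w ∈ P5 := by
    intro z hz
    obtain ⟨u, hu, r, hr, rfl⟩ := Submodule.mem_sup.1 (h4 hz)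
    obtain ⟨t, rfl⟩ := Submodule.mem_span_singleton.1 hu
    exact ⟨t, by rwa [add_sub_cancel_left]⟩
  obtain ⟨α, hα⟩ := hcoef _ hw4.1
  obtain ⟨β, hβ⟩ := hcoef _ hw4.2
  have h33 : P3 * P3 ≤ P6 := le_of_eq (by simp only [hP6, hP5, hP4, hP3, hP2, mul_assoc])
  have h5r : P5 * J = P6 := by simp only [hP6, hP5, hP4, hP3, hP2, mul_assoc]
  have hdeep : ∀ {a b c : A}, a ∈ J → b ∈ J → c ∈ J → ∀ {s : A}, s ∈ P3 →
      s * (a * b * c) ∈ P6 ∧ a * b * c * s ∈ P6 := by
    intro a b c ha hb hc s hs
    have h : a * b * c ∈ P3 := by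
      rw [mul_assoc]; exact Submodule.mul_mem_mul ha (Submodule.mul_mem_mul hb hc)
    exact ⟨h33 (Submodule.mul_mem_mul hs h), h33 (Submodule.mul_mem_mul h hs)⟩
  let q := Submodule.mkQ P6
  have hq : ∀ {z : A}, z ∈ P6 → q z = 0 := fun hz => (Submodule.Quotient.mk_eq_zero P6).2 hz
  -- the four relations from the deep squares
  have r1 : α • q (x * w) = 0 := by
    rw [← map_smul, ← mul_smul_comm,
      ← show q (x * (x * y * x * y)) = q (x * (α • w)) from (Submodule.Quotient.eq P6).2 (by
        rw [← mul_sub]; exact Submodule.mul_mem_mul hx hα),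
      show x * (x * y * x * y) = x * x * (y * x * y) by simp only [mul_assoc]]
    exact hq (hdeep hy hx hy hxx).1
  have r2 : β • q (y * w) = 0 := by
    rw [← map_smul, ← mul_smul_comm,
      ← show q (y * (y * x * y * x)) = q (y * (β • w)) from (Submodule.Quotient.eq P6).2 (by
        rw [← mul_sub]; exact Submodule.mul_mem_mul hy hβ),
      show y * (y * x * y * x) = y * y * (x * y * x) by simp only [mul_assoc]]
    exact hq (hdeep hx hy hx hyy).1
  have r3 : β • q (w * x) = 0 := by
    rw [← map_smul, ← smul_mul_assoc,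
      ← show q (y * x * y * x * x) = q ((β • w) * x) from (Submodule.Quotient.eq P6).2 (by
        rw [← sub_mul, ← h5r]; exact Submodule.mul_mem_mul hβ hx),
      show y * x * y * x * x = y * x * y * (x * x) by simp only [mul_assoc]]
    exact hq (hdeep hy hx hy hxx).2
  have r4 : α • q (w * y) = 0 := by
    rw [← map_smul, ← smul_mul_assoc,
      ← show q (x * y * x * y * y) = q ((α • w) * y) from (Submodule.Quotient.eq P6).2 (by
        rw [← sub_mul, ← h5r]; exact Submodule.mul_mem_mul hα hy),
      show x * y * x * y * y = x * y * x * (y * y) by simp only [mul_assoc]]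
    exact hq (hdeep hx hy hx hyy).2
  -- the two words of length five
  have e1 : q (x * w) = -(α • q (w * x)) := by
    rw [← map_smul, ← smul_mul_assoc,
      ← show q (x * y * x * y * x) = q ((α • w) * x) from (Submodule.Quotient.eq P6).2 (by
        rw [← sub_mul, ← h5r]; exact Submodule.mul_mem_mul hα hx), ← map_neg]
    refine (Submodule.Quotient.eq P6).2 ?_
    rw [show x * w - -(x * y * x * y * x) = x * x * (y * x * y) by
      simp only [hw, mul_sub, mul_assoc]; abel]
    exact (hdeep hy hx hy hxx).1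
  have e2 : q (y * w) = β • q (w * y) := by
    rw [← map_smul, ← smul_mul_assoc,
      ← show q (y * x * y * x * y) = q ((β • w) * y) from (Submodule.Quotient.eq P6).2 (by
        rw [← sub_mul, ← h5r]; exact Submodule.mul_mem_mul hβ hy)]
    refine (Submodule.Quotient.eq P6).2 ?_
    rw [show y * w - y * x * y * x * y = -(y * y * (x * y * x)) by
      simp only [hw, mul_sub, mul_assoc]; abel]
    exact Submodule.neg_mem _ (hdeep hx hy hx hyy).1
  by_cases hw5 : w ∈ P5
  · exact mulLeMulLeft (h4.trans (sup_le ((Submodule.span_singleton_le_iff_mem _ _).2 hw5) le_rfl))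
  have hαβ : α - β = 1 := by
    by_contra h
    refine hw5 ?_
    have hd : w - (α - β) • w ∈ P5 := by
      have := P5.sub_mem hα hβ
      convert this using 1
      rw [hw, sub_smul]; abel
    have : (1 - (α - β)) • w ∈ P5 := by rwa [sub_smul, one_smul]
    exact (P5.smul_mem_iff (sub_ne_zero.2 (Ne.symm h))).1 this
  have hxw : q (x * w) = 0 := by
    by_cases hα0 : α = 0
    · rw [e1, hα0, zero_smul, neg_zero]
    · exact (smul_eq_zero.1 r1).resolve_left hα0
  have hyw : q (y * w) = 0 := by
    by_cases hβ0 : β = 0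
    · rw [e2, hβ0, zero_smul]
    · exact (smul_eq_zero.1 r2).resolve_left hβ0
  refine (span_pair_mul_le hJ h4 ?_ hx hy (T := (∅ : Set A)) fun s hs => ?_).trans (by simp [hP6])
  · simp only [hP5, hP4, hP3, hP2, mul_assoc, le_refl]
  · rw [Set.mem_singleton_iff] at hs
    subst hs
    simp only [Submodule.span_empty, bot_sup_eq]
    exact ⟨(Submodule.Quotient.mk_eq_zero P6).1 hxw, (Submodule.Quotient.mk_eq_zero P6).1 hyw⟩

/-- Brackets of two elements of the square lie among the brackets with cubes. -/
theorem br_sq_le (J : Submodule k A) : br (J * J) (J * J) ≤ br J (J * (J * J)) := by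
  refine br_le fun a ha v hv => ?_
  refine Submodule.mul_induction_on ha (fun r hr s hs => ?_) fun a b ha hb => ?_
  · have h1 : s * v ∈ J * (J * J) := Submodule.mul_mem_mul hs hv
    have h2 : v * r ∈ J * (J * J) := by
      rw [← mul_assoc]; exact Submodule.mul_mem_mul hv hr
    rw [show r * s * v - v * (r * s) =
      (r * (s * v) - (s * v) * r) + (s * (v * r) - (v * r) * s) by
      simp only [mul_assoc]; abel]
    exact Submodule.add_mem _ (br_mem hr h1) (br_mem hs h2)
  · rw [add_mul, mul_add, add_sub_add_comm]; exact Submodule.add_mem _ ha hb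

/-- Bilinearity for brackets. -/
theorem br_le_of_span {X Y Z : Submodule k A} {S T : Set A} {X' Y' : Submodule k A}
    (hX : X ≤ Submodule.span k S ⊔ X') (hY : Y ≤ Submodule.span k T ⊔ Y') (hY'Y : Y' ≤ Y)
    (hS : S ⊆ X) (h1 : ∀ a ∈ S, ∀ b ∈ T, a * b - b * a ∈ Z) (h2 : br X' Y ≤ Z) (h3 : br X Y' ≤ Z) :
    br X Y ≤ Z := by
  refine br_le fun a ha b hb => ?_
  obtain ⟨s, hs, a', ha', rfl⟩ := Submodule.mem_sup.1 (hX ha)
  rw [add_mul, mul_add, add_sub_add_comm]
  refine Z.add_mem ?_ (h2 (br_mem ha' hb))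
  obtain ⟨t, ht, b', hb', rfl⟩ := Submodule.mem_sup.1 (hY hb)
  rw [mul_add, add_mul, add_sub_add_comm]
  refine Z.add_mem ?_ (h3 (br_mem (Submodule.span_le.2 hS hs) hb'))
  refine Submodule.span_induction (fun u hu => ?_) (by simp) (fun u v _ _ hu hv => ?_)
    (fun r u _ hu => ?_) hs
  · refine Submodule.span_induction (fun v hv => h1 u hu v hv) (by simp)
      (fun v v' _ _ hv hv' => ?_) (fun r v _ hv => ?_) ht
    · rw [mul_add, add_mul, add_sub_add_comm]; exact Z.add_mem hv hv'
    · rw [mul_smul_comm, smul_mul_assoc, ← smul_sub]; exact Z.smul_mem r hv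
  · rw [add_mul, mul_add, add_sub_add_comm]; exact Z.add_mem hu hv
  · rw [smul_mul_assoc, mul_smul_comm, ← smul_sub]; exact Z.smul_mem r hu

theorem eq_of_add_finrank {X Y : Submodule k A} [FiniteDimensional k A] (h : X ≤ Y)
    (hd : finrank k Y ≤ finrank k X) : X = Y :=
  Submodule.eq_of_le_of_finrank_le h hd

theorem linearIndependent_pow {x : A} {n : ℕ} (hne : x ^ (n + 1) ≠ 0) (h0 : x ^ (n + 2) = 0) :
    LinearIndependent k fun i : Fin (n + 1) => x ^ ((i : ℕ) + 1) := by
  rw [Fintype.linearIndependent_iff]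
  intro g hg i
  induction i using WellFoundedLT.induction with
  | _ i ih =>
    have h := congrArg (fun z => x ^ (n - (i : ℕ)) * z) hg
    simp only [Finset.mul_sum, mul_zero, mul_smul_comm, ← pow_add] at h
    rw [Finset.sum_eq_single i] at h
    · rw [show n - (i : ℕ) + ((i : ℕ) + 1) = n + 1 by omega] at h
      exact (smul_eq_zero.1 h).resolve_right hne
    · intro j _ hj
      rcases lt_or_gt_of_ne hj with hlt | hgt
      · rw [ih j hlt, zero_smul]
      · have : (i : ℕ) < j := hgt
        rw [pow_eq_zero_of_le (by omega) h0, smul_zero]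
    · simp

theorem no_local_aux_commutative [FiniteDimensional k A] (h2 : (2 : k) = 0) {J : Submodule k A}
    {N : ℕ} (hN : J ^ N = ⊥) (hmul : J * J ≤ J) (hsmall : finrank k J ≤ finrank k (br J J) + 4)
    (hbig : 15 ≤ finrank k J) {x y : A} (hx : x ∈ J) (hy : y ∈ J)
    (hJ : J ≤ Submodule.span k {x, y} ⊔ J * J)
    (hP2 : J * J ≤ Submodule.span k {x * x} ⊔ J * (J * J))
    (hc : x * y - y * x ∈ J * (J * J)) : False := by
  classical
  have hchar : ∀ z : A, z + z = 0 := fun z => by rw [← two_smul k z, h2, zero_smul]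
  have hgen1 : ∀ m, J * J ^ (m + 1) ≤ Submodule.span k {x ^ (m + 2)} ⊔ J * (J * J ^ (m + 1)) := by
    intro m
    induction m with
    | zero => simpa [pow_one, sq] using hP2
    | succ m ih =>
      obtain ⟨ρ, hρ⟩ : ∃ ρ : k, y * x - ρ • (x * x) ∈ J * (J * J) := by
        obtain ⟨u, hu, r, hr, he⟩ := Submodule.mem_sup.1 (hP2 (Submodule.mul_mem_mul hy hx))
        obtain ⟨t, rfl⟩ := Submodule.mem_span_singleton.1 hu
        exact ⟨t, by rw [← he, add_sub_cancel_left]; exact hr⟩
      have hstep : J ^ (m + 1 + 1) = J * J ^ (m + 1) := pow_succ' J (m + 1)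
      rw [hstep]
      refine span_pair_mul_le hJ ih ?_ hx hy fun s hs => ?_
      · simp only [mul_assoc, le_refl]
      · rw [Set.mem_singleton_iff] at hs
        subst hs
        refine ⟨Submodule.mem_sup_left ?_, ?_⟩
        · rw [← pow_succ']; exact Submodule.mem_span_singleton_self _
        · rw [show y * x ^ (m + 2) = ρ • x ^ (m + 1 + 2) + (y * x - ρ • (x * x)) * x ^ (m + 1) by
            rw [sub_mul, smul_mul_assoc, mul_assoc y x, ← pow_succ', mul_assoc x x, ← pow_succ',
              ← pow_succ', show m + 1 + 1 + 1 = m + 1 + 2 by omega,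
              show m + 1 + 1 = m + 2 by omega]
            abel]
          refine Submodule.add_mem_sup (Submodule.smul_mem _ _ (Submodule.mem_span_singleton_self _)) ?_
          have h := Submodule.mul_mem_mul hρ (Submodule.pow_mem_pow J hx (m + 1))
          simpa only [mul_assoc] using h
  have hdown : ∀ a : ℕ, J ^ (a + 2) ≤
      Submodule.span k (Set.range fun m : ℕ => x ^ (a + 2 + m)) := by
    intro a
    have key : ∀ d, J ^ (a + 2) ≤
        Submodule.span k (Set.range fun m : ℕ => x ^ (a + 2 + m)) ⊔ J ^ (a + 2 + d) := by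
      intro d
      induction d with
      | zero => exact le_sup_right
      | succ d ih =>
        refine ih.trans (sup_le le_sup_left ?_)
        have h := hgen1 (a + d)
        rw [← pow_succ', ← pow_succ'] at h
        rw [show a + 2 + d = a + d + 1 + 1 by omega, show a + 2 + (d + 1) = a + d + 1 + 1 + 1 by omega]
        refine h.trans (sup_le_sup_right (Submodule.span_mono ?_) _)
        rw [Set.singleton_subset_iff]
        exact ⟨d, congrArg (x ^ ·) (by omega)⟩
    refine (key N).trans (sup_le le_rfl ?_)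
    rw [add_comm, pow_add, hN]
    simp
  set S1 := Submodule.span k (Set.range fun m : ℕ => x ^ (m + 1)) with hS1
  have hS1J : ∀ v ∈ S1, Commute x v := by
    intro v hv
    induction hv using Submodule.span_induction with
    | mem u hu => obtain ⟨m, rfl⟩ := hu; exact (Commute.refl x).pow_right _
    | zero => exact Commute.zero_right x
    | add u v _ _ hu hv => exact hu.add_right hv
    | smul r u _ hu => exact hu.smul_right r
  have hpow2 : J * J ≤ S1 := by
    have h := hdown 0
    rw [pow_two] at h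
    refine h.trans (Submodule.span_mono ?_)
    rintro _ ⟨m, rfl⟩
    exact ⟨m + 1, congrArg (x ^ ·) (by omega)⟩
  set c := x * y - y * x with hcdef
  have hc3 : c ∈ Submodule.span k (Set.range fun m : ℕ => x ^ (3 + m)) := by
    have h := hdown 1
    rw [show (1 + 2 : ℕ) = 2 + 1 from rfl, pow_succ', pow_two] at h
    exact h hc
  have hxc : Commute x c := hS1J _ (Submodule.span_mono (by
    rintro _ ⟨m, rfl⟩; exact ⟨m + 2, congrArg (x ^ ·) (by omega)⟩) hc3)
  have hyx2 : Commute y (x * x) := by
    show y * (x * x) = x * x * y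
    have hyx : y * x = x * y - c := by rw [hcdef]; abel
    rw [← mul_assoc, hyx, sub_mul, mul_assoc x y, hyx, mul_sub, hxc.eq, sub_sub, hchar, sub_zero,
      mul_assoc]
  -- the nilpotency index
  have hnil : ∃ n, x ^ n = 0 := ⟨N, by
    have h := Submodule.pow_mem_pow J hx N
    rw [hN] at h
    simpa using h⟩
  set n0 := Nat.find hnil with hn0
  have hn0z : x ^ n0 = 0 := Nat.find_spec hnil
  -- the brackets
  set T : Finset A := (Finset.range (n0 / 2)).image fun j => x ^ (2 * j) * c with hT
  have hbracket : br J J ≤ Submodule.span k (T : Set A) := by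
    have hJ' : J ≤ Submodule.span k {y} ⊔ S1 := by
      refine hJ.trans (sup_le (Submodule.span_le.2 ?_) (hpow2.trans le_sup_right))
      rintro z (rfl | rfl)
      · exact Submodule.mem_sup_right (Submodule.subset_span ⟨0, by simp⟩)
      · exact Submodule.mem_sup_left (Submodule.mem_span_singleton_self _)
    have hyS : ∀ v ∈ S1, y * v - v * y ∈ Submodule.span k (T : Set A) := by
      intro v hv
      induction hv using Submodule.span_induction with
      | mem u hu =>
        obtain ⟨m, rfl⟩ := hu
        dsimp only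
        obtain ⟨j, hj | hj⟩ := Nat.even_or_odd' m
        · subst hj
          have hcm : y * x ^ (2 * j) = x ^ (2 * j) * y := by
            rw [pow_mul, sq]; exact (hyx2.pow_right j).eq
          rw [pow_succ, ← mul_assoc, hcm, mul_assoc, mul_assoc, ← mul_sub,
            show y * x - x * y = -c by rw [hcdef]; abel, mul_neg]
          refine Submodule.neg_mem _ ?_
          by_cases hjn : j < n0 / 2
          · exact Submodule.subset_span (Finset.mem_image.2 ⟨j, Finset.mem_range.2 hjn, rfl⟩)
          · suffices x ^ (2 * j) * c = 0 by rw [this]; exact zero_mem _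
            have hle : Submodule.span k (Set.range fun m : ℕ => x ^ (3 + m)) ≤
                LinearMap.ker (LinearMap.mulLeft k (x ^ (2 * j))) := Submodule.span_le.2 (by
              rintro _ ⟨m, rfl⟩
              show x ^ (2 * j) * x ^ (3 + m) = 0
              rw [← pow_add, pow_eq_zero_of_le (by omega) hn0z])
            exact hle hc3
        · subst hj
          have hcm : y * x ^ (2 * j + 1 + 1) = x ^ (2 * j + 1 + 1) * y := by
            rw [show 2 * j + 1 + 1 = 2 * (j + 1) by omega, pow_mul, sq]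
            exact (hyx2.pow_right _).eq
          rw [hcm, sub_self]; exact zero_mem _
      | zero => simp
      | add u v _ _ hu hv => rw [mul_add, add_mul, add_sub_add_comm]; exact add_mem hu hv
      | smul r u _ hu => rw [mul_smul_comm, smul_mul_assoc, ← smul_sub]; exact Submodule.smul_mem _ r hu
    have hSS : ∀ u ∈ S1, ∀ v ∈ S1, u * v - v * u = 0 := by
      intro u hu v hv
      induction hu using Submodule.span_induction with
      | mem w hw =>
        obtain ⟨m, rfl⟩ := hw
        rw [((hS1J v hv).pow_left _).eq, sub_self]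
      | zero => simp
      | add u w _ _ hu hw => rw [add_mul, mul_add, add_sub_add_comm, hu, hw, add_zero]
      | smul r u _ hu => rw [smul_mul_assoc, mul_smul_comm, ← smul_sub, hu, smul_zero]
    refine br_le fun a ha b hb => ?_
    obtain ⟨a1, ha1, a2, ha2, rfl⟩ := Submodule.mem_sup.1 (hJ' ha)
    obtain ⟨b1, hb1, b2, hb2, rfl⟩ := Submodule.mem_sup.1 (hJ' hb)
    obtain ⟨r, rfl⟩ := Submodule.mem_span_singleton.1 ha1
    obtain ⟨t, rfl⟩ := Submodule.mem_span_singleton.1 hb1
    rw [show (r • y + a2) * (t • y + b2) - (t • y + b2) * (r • y + a2) =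
        r • (y * b2 - b2 * y) - t • (y * a2 - a2 * y) + (a2 * b2 - b2 * a2) by
      simp only [add_mul, mul_add, smul_mul_assoc, mul_smul_comm, smul_sub, smul_add, smul_smul, mul_comm t r]
      abel, hSS a2 ha2 b2 hb2, add_zero]
    exact Submodule.sub_mem _ (Submodule.smul_mem _ _ (hyS b2 hb2))
      (Submodule.smul_mem _ _ (hyS a2 ha2))
  have hK : finrank k (br J J) ≤ n0 / 2 := by
    refine (Submodule.finrank_mono hbracket).trans ((finrank_span_finset_le_card T).trans ?_)
    exact Finset.card_image_le.trans (Finset.card_range _).le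
  -- the radical
  have hJle : finrank k J ≤ n0 + 1 := by
    have h : J ≤ Submodule.span k ((insert y ((Finset.range n0).image fun m => x ^ (m + 1)) :
        Finset A) : Set A) := by
      refine hJ.trans (sup_le (Submodule.span_le.2 ?_) (hpow2.trans (Submodule.span_le.2 ?_)))
      · rintro z (rfl | rfl)
        · rcases Nat.eq_zero_or_pos n0 with h | h
          · have hz : z ^ (1 : ℕ) = 0 := pow_eq_zero_of_le (by omega) (hn0z)
            rw [pow_one] at hz; rw [hz]; exact Submodule.zero_mem _
          · exact Submodule.subset_span (Finset.mem_insert_of_mem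
              (Finset.mem_image.2 ⟨0, Finset.mem_range.2 h, by simp⟩))
        · exact Submodule.subset_span (Finset.mem_insert_self _ _)
      · rintro _ ⟨m, rfl⟩
        by_cases hm : m < n0
        · exact Submodule.subset_span (Finset.mem_insert_of_mem
            (Finset.mem_image.2 ⟨m, Finset.mem_range.2 hm, rfl⟩))
        · show x ^ (m + 1) ∈ _
          rw [pow_eq_zero_of_le (by omega) hn0z]; exact Submodule.zero_mem _
    refine (Submodule.finrank_mono h).trans ((finrank_span_finset_le_card _).trans ?_)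
    exact (Finset.card_insert_le _ _).trans (Nat.add_le_add_right
      (Finset.card_image_le.trans (Finset.card_range _).le) 1)
  obtain ⟨n, hn⟩ : ∃ n, n0 = n + 2 := ⟨n0 - 2, by omega⟩
  have hli := linearIndependent_pow (k := k) (Nat.find_min hnil (show n + 1 < n0 by omega))
    (hn ▸ hn0z)
  have hlow : n + 1 ≤ finrank k J := by
    have h := hli.of_comp J.subtype (v := fun i : Fin (n + 1) =>
      (⟨x ^ ((i : ℕ) + 1), ?_⟩ : J))
    · simpa using h.fintype_card_le_finrank
    · have : ∀ m : ℕ, x ^ (m + 1) ∈ J := fun m => by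
        induction m with
        | zero => simpa using hx
        | succ m ih => rw [pow_succ]; exact hmul (Submodule.mul_mem_mul ih hx)
      exact this _
  omega

/-- **No local symmetric algebra of this shape.** -/
theorem no_local [FiniteDimensional k A] [IsAlgClosed k] (h2 : (2 : k) = 0) {J : Submodule k A}
    {N : ℕ} (hN : J ^ N = ⊥) (hmul : J * J ≤ J) (hsmall : finrank k J ≤ finrank k (br J J) + 4)
    (hbig : 15 ≤ finrank k J) (τ : A →ₗ[k] k) (hτ : ∀ z ∈ br J J, τ z = 0)
    (hideal : ∀ X : Submodule k A, X ≤ J → J * X ≤ X → (∀ z ∈ X, τ z = 0) → X = ⊥)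
    {f : A} (hf : f ∈ J) (hfc : ∀ a ∈ J, f * a = a * f) (hff : ∃ a ∈ J, f * f * a ≠ 0) :
    False := by
  classical
  have hchar : ∀ z : A, z + z = 0 := fun z => by rw [← two_smul k z, h2, zero_smul]
  set K := br J J with hK
  set P2 := J * J with hP2
  set P3 := J * P2 with hP3
  set P4 := J * P3 with hP4
  set P5 := J * P4 with hP5
  have hP32 : P3 ≤ P2 := mulLeMulLeft hmul
  have hP43 : P4 ≤ P3 := mulLeMulLeft hP32
  have hP54 : P5 ≤ P4 := mulLeMulLeft hP43
  have hKP2 : K ≤ P2 := br_le fun a ha b hb =>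
    P2.sub_mem (Submodule.mul_mem_mul ha hb) (Submodule.mul_mem_mul hb ha)
  have hidK : ∀ X : Submodule k A, X ≤ J → J * X ≤ X → X ≤ K → X = ⊥ := fun X h1 h2 h3 =>
    hideal X h1 h2 fun z hz => hτ z (h3 hz)
  -- not everything is a bracket
  by_cases h2K : P2 ≤ K
  · have h := hidK P2 hmul (mulLeMulLeft hmul) h2K
    have : finrank k K = 0 := by
      rw [le_bot_iff.1 (hKP2.trans h.le), finrank_bot]
    omega
  have hlt : finrank k K < finrank k P2 :=
    Submodule.finrank_lt_finrank_of_lt (lt_of_le_of_ne hKP2 fun h => h2K h.ge)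
  -- one more dimension is too little because of the central element
  by_cases hsq : finrank k P2 ≤ finrank k K + 1
  · have hex : ∃ m, J ^ m = ⊥ := ⟨N, hN⟩
    obtain ⟨m, hm, hm0⟩ : ∃ m, J * J ^ (m + 2) = ⊥ ∧ J ^ (m + 2) ≠ ⊥ := by
      have h3 : ∀ i, i < 3 → J ^ i ≠ ⊥ := by
        intro i hi h
        interval_cases i
        · have h1 : (1 : A) ∈ (J ^ 0 : Submodule k A) := by
            rw [Submodule.pow_zero]; exact Submodule.one_le.1 le_rfl
          rw [h, Submodule.mem_bot] at h1
          obtain ⟨a, -, hff⟩ := hff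
          exact hff (by rw [← one_mul (f * f * a), h1, zero_mul])
        · rw [pow_one] at h
          rw [h, finrank_bot] at hbig
          omega
        · rw [pow_two] at h
          exact h2K (h.le.trans bot_le)
      have h1 : 3 ≤ Nat.find hex := not_lt.1 fun h => h3 _ h (Nat.find_spec hex)
      refine ⟨Nat.find hex - 3, ?_, Nat.find_min hex (by omega)⟩
      rw [← pow_succ', show Nat.find hex - 3 + 2 + 1 = Nat.find hex by omega]
      exact Nat.find_spec hex
    set I := J ^ (m + 2) with hI
    have hI2 : I ≤ P2 := by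
      have : ∀ i, J ^ (i + 2) ≤ P2 := fun i => by
        induction i with
        | zero => rw [pow_two]
        | succ i ih => rw [pow_succ']; exact (mulLeMulLeft ih).trans hP32
      exact this m
    have hIK : ¬ I ≤ K := fun h =>
      hm0 (hidK I (hI2.trans hmul) (by rw [hm]; exact bot_le) h)
    have hP2I : P2 = K ⊔ I := (Submodule.eq_of_le_of_finrank_le (sup_le hKP2 hI2) (by
      have := Submodule.finrank_lt_finrank_of_lt (lt_of_le_of_ne le_sup_left fun h =>
        hIK (le_sup_right.trans h.ge) : K < K ⊔ I)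
      omega)).symm
    have hfK : ∀ z ∈ K, f * z ∈ K := by
      intro z hz
      refine (Submodule.span_le.2 ?_ : K ≤ K.comap (LinearMap.mulLeft k f)) hz
      rintro _ ⟨a, ha, b, hb, rfl⟩
      show f * (a * b - b * a) ∈ K
      rw [mul_sub, ← mul_assoc, ← mul_assoc, hfc b hb, mul_assoc b f a]
      exact br_mem (hmul (Submodule.mul_mem_mul hf ha)) hb
    have hX : P2.map (LinearMap.mulLeft k f) = ⊥ := by
      refine hideal _ ?_ ?_ ?_
      · rintro _ ⟨z, hz, rfl⟩
        exact hmul (Submodule.mul_mem_mul hf (hmul hz))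
      · refine Submodule.mul_le.2 fun a ha _ ⟨z, hz, hze⟩ => ⟨a * z, ?_, ?_⟩
        · exact mulLeMulLeft hmul (Submodule.mul_mem_mul ha hz)
        · rw [← hze]
          show f * (a * z) = a * (f * z)
          rw [← mul_assoc, hfc a ha, mul_assoc]
      · rintro _ ⟨z, hz, rfl⟩
        rw [SetLike.mem_coe, hP2I] at hz
        obtain ⟨κ, hκ, i, hi, rfl⟩ := Submodule.mem_sup.1 hz
        show τ (f * (κ + i)) = 0
        have hfi : f * i = 0 := by
          simpa [hm] using Submodule.mul_mem_mul hf hi
        rw [mul_add, hfi, add_zero]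
        exact hτ _ (hfK κ hκ)
    obtain ⟨a, ha, hfa⟩ := hff
    have h : f * (f * a) ∈ P2.map (LinearMap.mulLeft k f) :=
      ⟨f * a, Submodule.mul_mem_mul hf ha, rfl⟩
    rw [hX, Submodule.mem_bot] at h
    exact hfa (by rw [mul_assoc, h])
  -- two generators
  by_cases hone : ∃ x ∈ J, J ≤ Submodule.span k {x} ⊔ P2
  · obtain ⟨x, hx, hgen⟩ := hone
    have h0 := bracket_eq_bot_one hN hx hgen
    have : finrank k K = 0 := by
      show finrank k (br J J) = 0
      rw [le_bot_iff.1 (br_le (Z := ⊥) fun a ha b hb => (Submodule.mem_bot k).2 (h0 a ha b hb)),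
        finrank_bot]
    omega
  push Not at hone
  have hgens : ∀ x ∈ J, x ∉ P2 → ∃ y ∈ J, J ≤ Submodule.span k {x, y} ⊔ P2 ∧
      finrank k P2 = finrank k K + 2 := by
    intro x hx hx2
    obtain ⟨y, hy, hyx⟩ := SetLike.not_le_iff_exists.1 (hone x hx)
    have hs1 : finrank k (Submodule.span k {x} ⊔ P2 : Submodule k A) = finrank k P2 + 1 := by
      rw [sup_comm, Submodule.finrank_sup_span_singleton hx2]
    have hs2 : finrank k (Submodule.span k {x, y} ⊔ P2 : Submodule k A) = finrank k P2 + 2 := by
      rw [Submodule.span_insert, sup_comm (Submodule.span k {x}), sup_assoc, sup_comm,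
        Submodule.finrank_sup_span_singleton hyx, hs1]
    have hle : Submodule.span k {x, y} ⊔ P2 ≤ J :=
      sup_le (Submodule.span_le.2 (by simp [Set.insert_subset_iff, hx, hy])) hmul
    have h := Submodule.finrank_mono hle
    exact ⟨y, hy, (Submodule.eq_of_le_of_finrank_le hle (by omega)).ge, by omega⟩
  obtain ⟨x, hx, hx2⟩ := SetLike.not_le_iff_exists.1 fun h : J ≤ P2 =>
    hone 0 (zero_mem _) (h.trans le_sup_right)
  obtain ⟨y, hy, hgen, hbound⟩ := hgens x hx hx2
  -- dimensions
  have h22 : P2 * P2 ≤ J * P3 := le_of_eq (by simp only [hP3, hP2, mul_assoc])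
  have hw2 : P2 ≤ Submodule.span k ((({x * x, x * y, y * x, y * y} : Finset A)) : Set A) ⊔ P3 :=
    span_pair_mul_le hgen hgen (le_of_eq (by simp only [hP2, mul_assoc])) hx hy fun s hs => by
      rcases hs with rfl | rfl <;>
      · constructor <;> exact Submodule.mem_sup_left (Submodule.subset_span (by simp))
  have hJdim : finrank k J ≤ 2 + finrank k P2 := by
    have h := finrank_le_card_add ({x, y} : Finset A) (X := J) (Y := P2) (by simpa using hgen)
    have : ({x, y} : Finset A).card ≤ 2 := Finset.card_le_two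
    omega
  have hP2dim : finrank k P2 ≤ 4 + finrank k P3 := by
    have h := finrank_le_card_add _ hw2
    have : ({x * x, x * y, y * x, y * y} : Finset A).card ≤ 4 := Finset.card_le_four
    omega
  have hP3dim : finrank k P3 ≤ 8 + finrank k P4 := by
    have h3 : P3 ≤ Submodule.span k ((({x * x, x * y, y * x, y * y} : Finset A).image (x * ·) ∪
        ({x * x, x * y, y * x, y * y} : Finset A).image (y * ·) : Finset A) : Set A) ⊔ P4 :=
      span_pair_mul_le hgen hw2 h22 hx hy fun s hs => by
        constructor <;> refine Submodule.mem_sup_left (Submodule.subset_span ?_)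
        · exact Finset.mem_union_left _ (Finset.mem_image_of_mem _ hs)
        · exact Finset.mem_union_right _ (Finset.mem_image_of_mem _ hs)
    have h := finrank_le_card_add _ h3
    have h4 : ({x * x, x * y, y * x, y * y} : Finset A).card ≤ 4 := Finset.card_le_four
    have := Finset.card_union_le (({x * x, x * y, y * x, y * y} : Finset A).image (x * ·))
      (({x * x, x * y, y * x, y * y} : Finset A).image (y * ·))
    have h5 := Finset.card_image_le (s := ({x * x, x * y, y * x, y * y} : Finset A)) (f := (x * ·))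
    have h6 := Finset.card_image_le (s := ({x * x, x * y, y * x, y * y} : Finset A)) (f := (y * ·))
    omega
  have hzero3 : P3 = ⊥ → False := fun h => by rw [h, finrank_bot] at hP2dim; omega
  have hzero4 : P4 = ⊥ → False := fun h => by rw [h, finrank_bot] at hP3dim; omega
  have h3K : ¬ P3 ≤ K := fun h =>
    hzero3 (hidK P3 (hP32.trans hmul) (mulLeMulLeft hP32) h)
  have h4K : ¬ P4 ≤ K := fun h =>
    hzero4 (hidK P4 (hP43.trans (hP32.trans hmul)) (mulLeMulLeft hP43) h)
  set Q := K ⊔ P3 with hQ
  have hQlt : finrank k K < finrank k Q :=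
    Submodule.finrank_lt_finrank_of_lt (lt_of_le_of_ne le_sup_left fun h =>
      h3K (le_sup_right.trans h.ge))
  have hright3 : ∀ {s g : A}, s ∈ P2 → g ∈ J → s * g ∈ P3 := by
    intro s g hs hg
    have h : P2 * J = P3 := by simp only [hP3, hP2, mul_assoc]
    exact h ▸ Submodule.mul_mem_mul hs hg
  have hright4 : ∀ {s g : A}, s ∈ P3 → g ∈ J → s * g ∈ P4 := by
    intro s g hs hg
    have h : P3 * J = P4 := by simp only [hP4, hP3, hP2, mul_assoc]
    exact h ▸ Submodule.mul_mem_mul hs hg
  have hbr2 : br J P2 ≤ P3 := br_le fun a ha b hb =>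
    P3.sub_mem (Submodule.mul_mem_mul ha hb) (hright3 hb ha)
  have hbr3 : br J P3 ≤ P4 := br_le fun a ha b hb =>
    P4.sub_mem (Submodule.mul_mem_mul ha hb) (hright4 hb ha)
  -- brackets of generators
  have hKc : ∀ {a b : A}, a ∈ J → b ∈ J → J ≤ Submodule.span k {a, b} ⊔ P2 →
      K ≤ Submodule.span k {a * b - b * a} ⊔ br J P2 := by
    intro a b ha hb hg
    refine br_le_of_span (X := J) (Y := J) hg hg hmul (by simp [Set.insert_subset_iff, ha, hb])
      (fun u hu v hv => ?_) (br_le fun u hu v hv => ?_) le_sup_right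
    · rcases hu with rfl | rfl <;> rcases hv with rfl | rfl
      · simp
      · exact Submodule.mem_sup_left (Submodule.mem_span_singleton_self _)
      · refine Submodule.mem_sup_left (Submodule.mem_span_singleton.2 ⟨-1, ?_⟩)
        rw [neg_one_smul, neg_sub]
      · simp
    · exact Submodule.mem_sup_right (mul_sub_mul_symm hv hu)
  have hKQ : ∀ {a b : A}, a ∈ J → b ∈ J → J ≤ Submodule.span k {a, b} ⊔ P2 →
      Q = Submodule.span k {a * b - b * a} ⊔ P3 := by
    intro a b ha hb hg
    refine le_antisymm (sup_le ((hKc ha hb hg).trans (sup_le_sup_left hbr2 _)) le_sup_right) ?_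
    exact sup_le ((Submodule.span_singleton_le_iff_mem _ _).2
      (Submodule.mem_sup_left (br_mem ha hb))) le_sup_right
  set c := x * y - y * x with hc
  by_cases hcube : P2 ≤ Submodule.span k {c} ⊔ P3
  · exact hzero3 (cube_eq_bot hN hx hy hgen hcube)
  have hQ2 : Q < P2 := lt_of_le_of_ne (sup_le hKP2 hP32) fun h =>
    hcube (by rw [← hKQ hx hy hgen, h])
  have hQdim : finrank k Q = finrank k K + 1 := by
    have := Submodule.finrank_lt_finrank_of_lt hQ2
    omega
  have hP2u : ∀ u ∈ P2, u ∉ Q → P2 = Submodule.span k {u} ⊔ Q := fun u hu huQ =>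
    (Submodule.eq_of_le_of_finrank_le (sup_le ((Submodule.span_singleton_le_iff_mem _ _).2 hu)
      hQ2.le) (by rw [sup_comm, Submodule.finrank_sup_span_singleton huQ]; omega)).symm
  have hQ4 : Q = K ⊔ P4 := (Submodule.eq_of_le_of_finrank_le (sup_le_sup_left hP43 K) (by
    have e : finrank k ↥(K ⊔ P3) = finrank k ↥Q := rfl
    have := Submodule.finrank_lt_finrank_of_lt (lt_of_le_of_ne le_sup_left fun h =>
      h4K (le_sup_right.trans h.ge) : K < K ⊔ P4)
    omega)).symm
  by_cases hc3 : c ∈ P3
  · -- commutative modulo cubes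
    have hQ3 : Q = P3 := by
      rw [hKQ hx hy hgen]; exact sup_eq_right.2 ((Submodule.span_singleton_le_iff_mem _ _).2 hc3)
    have hcomm : ∀ {g : A}, g ∈ J → y * x * g - x * y * g ∈ P4 := fun hg => by
      rw [← sub_mul, show y * x - x * y = -c by rw [hc]; abel]
      exact hright4 (P3.neg_mem hc3) hg
    obtain ⟨z, hzJ, hz⟩ : ∃ z ∈ J, z * z ∉ P3 := by
      by_contra! hall
      refine hzero3 (eq_bot_of_le_mul hN ?_)
      have h2' : P2 ≤ Submodule.span k {x * y} ⊔ P3 := by
        refine hw2.trans (sup_le (Submodule.span_le.2 ?_) le_sup_right)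
        intro v hv
        simp only [Finset.coe_insert, Finset.coe_singleton, Set.mem_insert_iff,
          Set.mem_singleton_iff] at hv
        rcases hv with rfl | rfl | rfl | rfl
        · exact Submodule.mem_sup_right (hall x hx)
        · exact Submodule.mem_sup_left (Submodule.mem_span_singleton_self _)
        · rw [show y * x = x * y + -c by rw [hc]; abel]
          exact Submodule.add_mem_sup (Submodule.mem_span_singleton_self _) (P3.neg_mem hc3)
        · exact Submodule.mem_sup_right (hall y hy)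
      refine (span_pair_mul_le hgen h2' h22 hx hy (T := (∅ : Set A)) fun s hs => ?_).trans
        (by simp)
      rw [Set.mem_singleton_iff] at hs
      subst hs
      simp only [Submodule.span_empty, bot_sup_eq]
      refine ⟨by rw [← mul_assoc x x y]; exact hright4 (hall x hx) hy, ?_⟩
      have h := P4.add_mem (hcomm hy) (Submodule.mul_mem_mul hx (hall y hy) : x * (y * y) ∈ P4)
      rwa [← mul_assoc x y y, sub_add_cancel, mul_assoc] at h
    have hz2 : z ∉ P2 := fun h => hz (hright3 h hzJ)
    obtain ⟨w, hwJ, hgenw, -⟩ := hgens z hzJ hz2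
    have hQw := hKQ hzJ hwJ hgenw
    refine no_local_aux_commutative h2 hN hmul hsmall hbig hzJ hwJ hgenw ?_ ?_
    · show P2 ≤ Submodule.span k {z * z} ⊔ P3
      rw [← hQ3, ← hP2u _ (Submodule.mul_mem_mul hzJ hzJ) (by rwa [hQ3])]
    · show z * w - w * z ∈ P3
      rw [← hQ3, hQw]
      exact Submodule.mem_sup_left (Submodule.mem_span_singleton_self _)
  have hcQ : ∀ {a b : A}, a ∈ J → b ∈ J → J ≤ Submodule.span k {a, b} ⊔ P2 →
      a * b - b * a ∉ P3 := by
    intro a b ha hb hg h
    refine hc3 ?_
    have hQ3 : Q = P3 := by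
      rw [hKQ ha hb hg]; exact sup_eq_right.2 ((Submodule.span_singleton_le_iff_mem _ _).2 h)
    rw [← hQ3]
    exact Submodule.mem_sup_left (br_mem hx hy)
  have hdeep : ∀ {a b : A}, a ∈ J → b ∈ J → J ≤ Submodule.span k {a, b} ⊔ P2 →
      P3 ≤ br J P2 ⊔ P4 := by
    intro a b ha hb hg v hv
    have hv' : v ∈ K ⊔ P4 := hQ4 ▸ Submodule.mem_sup_right hv
    obtain ⟨κ, hκ, r, hr, rfl⟩ := Submodule.mem_sup.1 hv'
    obtain ⟨κ', hκ', β, hβ, rfl⟩ := Submodule.mem_sup.1 (hKc ha hb hg hκ)
    obtain ⟨t, rfl⟩ := Submodule.mem_span_singleton.1 hκ'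
    have ht : t • (a * b - b * a) ∈ P3 := by
      have := P3.sub_mem (P3.sub_mem hv (hP43 hr)) (hbr2 hβ)
      rwa [add_sub_cancel_right, add_sub_cancel_right] at this
    rcases eq_or_ne t 0 with rfl | ht0
    · rw [zero_smul, zero_add]
      exact Submodule.add_mem_sup hβ hr
    · exact absurd ((P3.smul_mem_iff ht0).1 ht) (hcQ ha hb hg)
  have h22' : br P2 P2 ≤ br J P3 := br_sq_le J
  by_cases hA : ∃ z ∈ J, z * z ∉ Q
  · -- some square is new: one word in degree three
    obtain ⟨z, hzJ, hz⟩ := hA
    have hz2 : z ∉ P2 := fun h => hz (Submodule.mem_sup_right (hright3 h hzJ))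
    obtain ⟨w, hwJ, hg, -⟩ := hgens z hzJ hz2
    set u := z * z with hu
    set d := z * w - w * z with hd
    set L := Submodule.span k {w * u - u * w} ⊔ P4 with hL
    have hP2' : P2 ≤ Submodule.span k {u, d} ⊔ P3 := by
      rw [hP2u _ (Submodule.mul_mem_mul hzJ hzJ) hz, hKQ hzJ hwJ hg, Submodule.span_insert,
        sup_assoc]
    have hzd : z * d - d * z ∈ L := by
      rw [show z * d - d * z = -(w * u - u * w) + ((w * u - z * w * z) + (w * u - z * w * z)) by
        simp only [hd, hu, mul_sub, sub_mul, mul_assoc]; abel, hchar, add_zero]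
      exact Submodule.neg_mem _ (Submodule.mem_sup_left (Submodule.mem_span_singleton_self _))
    have hzP3 : ∀ p ∈ P3, z * p - p * z ∈ L := fun p hp =>
      Submodule.mem_sup_right (hbr3 (br_mem hzJ hp))
    have hwd : w * d - d * w ∈ L := by
      rw [show w * d - d * w = -(z * (w * w) - (w * w) * z) +
          ((w * z * w - w * w * z) + (w * z * w - w * w * z)) by
        simp only [hd, mul_sub, sub_mul, mul_assoc]; abel, hchar, add_zero]
      refine Submodule.neg_mem _ ?_
      obtain ⟨s, hs, p, hp, he⟩ := Submodule.mem_sup.1 (hP2' (Submodule.mul_mem_mul hwJ hwJ))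
      obtain ⟨ρ, γ, rfl⟩ := Submodule.mem_span_pair.1 hs
      rw [← he, show z * (ρ • u + γ • d + p) - (ρ • u + γ • d + p) * z =
          ρ • (z * u - u * z) + γ • (z * d - d * z) + (z * p - p * z) by
        simp only [mul_add, add_mul, mul_smul_comm, smul_mul_assoc, smul_sub]; abel,
        show z * u - u * z = 0 by rw [hu, mul_assoc, sub_self], smul_zero, zero_add]
      exact L.add_mem (L.smul_mem _ hzd) (hzP3 p hp)
    have hbrA : br J P2 ≤ L := by
      refine br_le_of_span hg hP2' hP32 (by simp [Set.insert_subset_iff, hzJ, hwJ])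
        (fun a ha b hb => ?_) ((h22'.trans hbr3).trans le_sup_right) (hbr3.trans le_sup_right)
      rcases ha with rfl | rfl <;> rcases hb with rfl | rfl
      · rw [hu, mul_assoc, sub_self]; exact L.zero_mem
      · exact hzd
      · exact Submodule.mem_sup_left (Submodule.mem_span_singleton_self _)
      · exact hwd
    exact hzero4 (fourth_eq_bot_of_line hN
      ((hdeep hzJ hwJ hg).trans (sup_le hbrA le_sup_right)) (hdeep hzJ hwJ hg))
  push Not at hA
  -- generators with deep squares
  obtain ⟨a, haJ, b, hbJ, hg, haa, hbb⟩ : ∃ a ∈ J, ∃ b ∈ J, J ≤ Submodule.span k {a, b} ⊔ P2 ∧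
      a * a ∈ P3 ∧ b * b ∈ P3 := by
    have hco : ∀ v ∈ Q, ∃ t : k, v - t • c ∈ P3 := by
      intro v hv
      rw [hKQ hx hy hgen] at hv
      obtain ⟨s, hs, p, hp, rfl⟩ := Submodule.mem_sup.1 hv
      obtain ⟨t, rfl⟩ := Submodule.mem_span_singleton.1 hs
      exact ⟨t, by rwa [add_sub_cancel_left]⟩
    obtain ⟨α, hα⟩ := hco _ (hA x hx)
    obtain ⟨β, hβ⟩ := hco _ (hA y hy)
    obtain ⟨s, hs⟩ : ∃ s : k, α * s ^ 2 + s + β = 0 := by
      rcases eq_or_ne α 0 with rfl | hα0
      · exact ⟨-β, by ring⟩
      · obtain ⟨s, hs⟩ := IsAlgClosed.exists_root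
          (Polynomial.C α * Polynomial.X ^ 2 + Polynomial.C 1 * Polynomial.X + Polynomial.C β)
          (by rw [Polynomial.degree_quadratic hα0]; exact two_ne_zero)
        exact ⟨s, by simpa [Polynomial.IsRoot] using hs⟩
    set a := s • x + y with ha
    have haJ : a ∈ J := J.add_mem (J.smul_mem s hx) hy
    have haa : a * a ∈ P3 := by
      have h := P3.add_mem (P3.smul_mem (s ^ 2) hα) hβ
      rw [show a * a = (s ^ 2 • (x * x - α • c) + (y * y - β • c)) +
          ((α * s ^ 2 + s + β) • c + ((s • (y * x)) + s • (y * x))) by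
        simp only [ha, hc, add_mul, mul_add, smul_mul_assoc, mul_smul_comm, smul_smul, smul_sub,
          smul_add, add_smul, mul_comm α, sq]
        abel, hs, zero_smul, hchar, add_zero, add_zero]
      exact h
    set b := x + α • a with hb
    refine ⟨a, haJ, b, J.add_mem hx (J.smul_mem α haJ), ?_, haa, ?_⟩
    · refine hgen.trans (sup_le (Submodule.span_le.2 ?_) le_sup_right)
      have hxmem : x ∈ Submodule.span k {a, b} := Submodule.mem_span_pair.2
        ⟨-α, 1, by rw [hb, one_smul, neg_smul]; abel⟩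
      rintro v (rfl | rfl)
      · exact Submodule.mem_sup_left hxmem
      · refine Submodule.mem_sup_left ?_
        rw [show v = a - s • x by rw [ha]; abel]
        exact Submodule.sub_mem _ (Submodule.subset_span (by simp)) (Submodule.smul_mem _ _ hxmem)
    · have e : x * a + a * x = c + (y * x + y * x) + (s • (x * x) + s • (x * x)) := by
        simp only [ha, hc, add_mul, mul_add, smul_mul_assoc, mul_smul_comm]
        abel
      have e' : b * b = x * x + α • (x * a + a * x) + (α * α) • (a * a) := by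
        simp only [hb, add_mul, mul_add, smul_mul_assoc, mul_smul_comm, smul_smul, smul_add]
        abel
      rw [e', e, hchar, hchar, add_zero, add_zero,
        show x * x + α • c + (α * α) • (a * a) =
          x * x - α • c + (α * α) • (a * a) + (α • c + α • c) by abel, hchar, add_zero]
      exact P3.add_mem hα (P3.smul_mem (α * α) haa)
  set d := a * b - b * a with hd
  have hP2' : P2 ≤ Submodule.span k {a * b, b * a} ⊔ P3 :=
    span_pair_mul_le hg hg (le_of_eq (by simp only [hP2, mul_assoc])) haJ hbJ fun s hs => by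
      rcases hs with rfl | rfl
      · exact ⟨Submodule.mem_sup_right haa, Submodule.mem_sup_left (Submodule.subset_span (by simp))⟩
      · exact ⟨Submodule.mem_sup_left (Submodule.subset_span (by simp)), Submodule.mem_sup_right hbb⟩
  have hP3' : P3 ≤ Submodule.span k {a * b * a, b * a * b} ⊔ P4 :=
    span_pair_mul_le hg hP2' h22 haJ hbJ fun s hs => by
      rcases hs with rfl | rfl
      · refine ⟨Submodule.mem_sup_right ?_, Submodule.mem_sup_left (Submodule.subset_span ?_)⟩
        · rw [← mul_assoc a a b]; exact hright4 haa hbJ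
        · simp [mul_assoc]
      · refine ⟨Submodule.mem_sup_left (Submodule.subset_span ?_), Submodule.mem_sup_right ?_⟩
        · simp [mul_assoc]
        · rw [← mul_assoc b b a]; exact hright4 hbb haJ
  by_cases hdep : ∃ r t : k, (r ≠ 0 ∨ t ≠ 0) ∧ r • (a * b * a) + t • (b * a * b) ∈ P4
  · obtain ⟨r, t, hrt, hmem⟩ := hdep
    have hline : ∃ w, P3 ≤ Submodule.span k {w} ⊔ P4 := by
      rcases hrt with h | h
      · refine ⟨b * a * b, hP3'.trans (sup_le (Submodule.span_le.2 ?_) le_sup_right)⟩
        rintro v (rfl | rfl)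
        · have := Submodule.smul_mem (Submodule.span k {b * a * b} ⊔ P4) r⁻¹
            (Submodule.sub_mem _ (Submodule.mem_sup_right hmem)
              (Submodule.mem_sup_left (Submodule.smul_mem _ t (Submodule.mem_span_singleton_self _))))
          rwa [add_sub_cancel_right, inv_smul_smul₀ h] at this
        · exact Submodule.mem_sup_left (Submodule.mem_span_singleton_self _)
      · refine ⟨a * b * a, hP3'.trans (sup_le (Submodule.span_le.2 ?_) le_sup_right)⟩
        rintro v (rfl | rfl)
        · exact Submodule.mem_sup_left (Submodule.mem_span_singleton_self _)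
        · have := Submodule.smul_mem (Submodule.span k {a * b * a} ⊔ P4) t⁻¹
            (Submodule.sub_mem _ (Submodule.mem_sup_right hmem)
              (Submodule.mem_sup_left (Submodule.smul_mem _ r (Submodule.mem_span_singleton_self _))))
          rwa [add_sub_cancel_left, inv_smul_smul₀ h] at this
    obtain ⟨w, hw⟩ := hline
    exact hzero4 (fourth_eq_bot_of_line hN hw (hdeep haJ hbJ hg))
  -- two independent words in every degree
  have h5K : ¬ P5 ≤ K := by
    intro h
    have h5 : P5 = ⊥ := hidK P5 (hP54.trans (hP43.trans (hP32.trans hmul))) (mulLeMulLeft hP54) h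
    have h4' : P4 ≤ Submodule.span k ((({a * (a * b * a), a * (b * a * b), b * (a * b * a),
        b * (b * a * b)} : Finset A)) : Set A) ⊔ P5 :=
      span_pair_mul_le hg hP3' (le_of_eq (by simp only [hP4, hP3, hP2, mul_assoc])) haJ hbJ
        fun s hs => by
          rcases hs with rfl | rfl <;>
          · constructor <;> exact Submodule.mem_sup_left (Submodule.subset_span (by simp))
    have e1 := finrank_le_card_add _ h4'
    have e2 : finrank k P2 ≤ 2 + finrank k P3 := by
      have e := finrank_le_card_add ({a * b, b * a} : Finset A) (X := P2) (Y := P3)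
        (by simpa using hP2')
      have : ({a * b, b * a} : Finset A).card ≤ 2 := Finset.card_le_two
      omega
    have e3 : finrank k P3 ≤ 2 + finrank k P4 := by
      have e := finrank_le_card_add ({a * b * a, b * a * b} : Finset A) (X := P3) (Y := P4)
        (by simpa using hP3')
      have : ({a * b * a, b * a * b} : Finset A).card ≤ 2 := Finset.card_le_two
      omega
    have : ({a * (a * b * a), a * (b * a * b), b * (a * b * a), b * (b * a * b)} : Finset A).card
        ≤ 4 := Finset.card_le_four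
    rw [h5, finrank_bot] at e1
    omega
  have hQ5 : Q = K ⊔ P5 := (Submodule.eq_of_le_of_finrank_le
    (sup_le_sup_left (hP54.trans hP43) K) (by
      have e : finrank k ↥(K ⊔ P3) = finrank k ↥Q := rfl
      have := Submodule.finrank_lt_finrank_of_lt (lt_of_le_of_ne le_sup_left fun h =>
        h5K (le_sup_right.trans h.ge) : K < K ⊔ P5)
      omega)).symm
  set w := a * b * a * b - b * a * b * a with hw
  have h23 : br P2 P3 ≤ P5 := br_le fun u hu v hv => P5.sub_mem
    ((le_of_eq (by simp only [hP5, hP4, hP3, hP2, mul_assoc]) : P2 * P3 ≤ P5)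
      (Submodule.mul_mem_mul hu hv))
    ((le_of_eq (by simp only [hP5, hP4, hP3, hP2, mul_assoc]) : P3 * P2 ≤ P5)
      (Submodule.mul_mem_mul hv hu))
  have h14 : br J P4 ≤ P5 := br_le fun u hu v hv => P5.sub_mem (Submodule.mul_mem_mul hu hv)
    ((le_of_eq (by simp only [hP5, hP4, hP3, hP2, mul_assoc]) : P4 * J ≤ P5)
      (Submodule.mul_mem_mul hv hu))
  have h3ab : a * b * a ∈ P3 ∧ b * a * b ∈ P3 :=
    ⟨hright3 (Submodule.mul_mem_mul haJ hbJ) haJ, hright3 (Submodule.mul_mem_mul hbJ haJ) hbJ⟩
  have hbr3w : br J P3 ≤ Submodule.span k {w} ⊔ P5 := by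
    have hd5 : ∀ {q r : A}, q ∈ P3 → r ∈ P2 → q * r ∈ P5 ∧ r * q ∈ P5 := fun hq hr =>
      ⟨(le_of_eq (by simp only [hP5, hP4, hP3, hP2, mul_assoc]) : P3 * P2 ≤ P5)
        (Submodule.mul_mem_mul hq hr),
      (le_of_eq (by simp only [hP5, hP4, hP3, hP2, mul_assoc]) : P2 * P3 ≤ P5)
        (Submodule.mul_mem_mul hr hq)⟩
    refine br_le_of_span hg hP3' hP43 (by simp [Set.insert_subset_iff, haJ, hbJ])
      (fun u hu v hv => ?_) (h23.trans le_sup_right) (h14.trans le_sup_right)
    rcases hu with rfl | rfl <;> rcases hv with rfl | rfl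
    · refine Submodule.mem_sup_right (P5.sub_mem ?_ ?_)
      · rw [show u * (u * b * u) = u * u * (b * u) by simp only [mul_assoc]]
        exact (hd5 haa (Submodule.mul_mem_mul hbJ haJ)).1
      · rw [show u * b * u * u = u * b * (u * u) by simp only [mul_assoc]]
        exact (hd5 haa (Submodule.mul_mem_mul haJ hbJ)).2
    · refine Submodule.mem_sup_left (Submodule.mem_span_singleton.2 ⟨1, ?_⟩)
      rw [one_smul, hw]; simp only [mul_assoc]
    · refine Submodule.mem_sup_left (Submodule.mem_span_singleton.2 ⟨-1, ?_⟩)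
      rw [neg_one_smul, hw, neg_sub]; simp only [mul_assoc]
    · refine Submodule.mem_sup_right (P5.sub_mem ?_ ?_)
      · rw [show u * (u * a * u) = u * u * (a * u) by simp only [mul_assoc]]
        exact (hd5 hbb (Submodule.mul_mem_mul haJ hbJ)).1
      · rw [show u * a * u * u = u * a * (u * u) by simp only [mul_assoc]]
        exact (hd5 hbb (Submodule.mul_mem_mul hbJ haJ)).2
  set e1 := a * (a * b) - a * b * a with he1
  set e2 := b * (b * a) - b * a * b with he2
  have hbr2' : br J P2 ≤ Submodule.span k {e1, e2} ⊔ br J P3 := by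
    refine br_le_of_span hg hP2' hP32 (by simp [Set.insert_subset_iff, haJ, hbJ])
      (fun u hu v hv => ?_) (h22'.trans le_sup_right) le_sup_right
    rcases hu with rfl | rfl <;> rcases hv with rfl | rfl
    · exact Submodule.mem_sup_left (Submodule.subset_span (by simp [he1]))
    · rw [show u * (b * u) - b * u * u = -e1 + (u * u * b - b * (u * u)) by
        simp only [he1, mul_assoc]; abel]
      exact Submodule.add_mem_sup (Submodule.neg_mem _ (Submodule.subset_span (by simp)))
        (mul_sub_mul_symm hbJ haa)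
    · rw [show u * (a * u) - a * u * u = -e2 + (u * u * a - a * (u * u)) by
        simp only [he2, mul_assoc]; abel]
      exact Submodule.add_mem_sup (Submodule.neg_mem _ (Submodule.subset_span (by simp)))
        (mul_sub_mul_symm haJ hbb)
    · exact Submodule.mem_sup_left (Submodule.subset_span (by simp [he2]))
  have h4w : P4 ≤ Submodule.span k {w} ⊔ P5 := by
    intro v hv
    have hv' : v ∈ K ⊔ P5 := hQ5 ▸ Submodule.mem_sup_right (hP43 hv)
    obtain ⟨κ, hκ, r, hr, rfl⟩ := Submodule.mem_sup.1 hv'
    obtain ⟨κ', hκ', β, hβ, rfl⟩ := Submodule.mem_sup.1 (hKc haJ hbJ hg hκ)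
    obtain ⟨t, rfl⟩ := Submodule.mem_span_singleton.1 hκ'
    obtain ⟨e, he, β', hβ', rfl⟩ := Submodule.mem_sup.1 (hbr2' hβ)
    obtain ⟨ρ, σ, rfl⟩ := Submodule.mem_span_pair.1 he
    have hrest : t • d + (ρ • e1 + σ • e2) ∈ P4 := by
      have := P4.sub_mem (P4.sub_mem hv (hP54 hr)) (hbr3 hβ')
      rwa [add_sub_cancel_right, ← add_assoc, add_sub_cancel_right] at this
    have he12 : ρ • e1 + σ • e2 ∈ P3 := hbr2 (Submodule.add_mem _
      (Submodule.smul_mem _ ρ (br_mem haJ (Submodule.mul_mem_mul haJ hbJ)))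
      (Submodule.smul_mem _ σ (br_mem hbJ (Submodule.mul_mem_mul hbJ haJ))))
    have ht : t = 0 := by
      by_contra ht
      have := P3.sub_mem (hP43 hrest) he12
      rw [add_sub_cancel_right] at this
      exact hcQ haJ hbJ hg ((P3.smul_mem_iff ht).1 this)
    subst ht
    have hzero : ρ = 0 ∧ σ = 0 := by
      by_contra hne
      refine hdep ⟨ρ, σ, not_and_or.1 hne, ?_⟩
      rw [zero_smul, zero_add] at hrest
      have h1 : ρ • (a * a * b) + σ • (b * b * a) ∈ P4 :=
        P4.add_mem (P4.smul_mem ρ (hright4 haa hbJ)) (P4.smul_mem σ (hright4 hbb haJ))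
      have := P4.sub_mem h1 hrest
      convert this using 1
      simp only [he1, he2, smul_sub, mul_assoc]
      abel
    rw [hzero.1, hzero.2, zero_smul, zero_smul, zero_smul, zero_add, zero_add, zero_add]
    exact (sup_le hbr3w le_sup_right : br J P3 ⊔ P5 ≤ _) (Submodule.add_mem_sup hβ' hr)
  exact h5K (by rw [show P5 = ⊥ from fifth_eq_bot_of_alternating hN haJ hbJ haa hbb hg h4w]; exact bot_le)

end Cfsg.Agent.H40.Dihedral
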